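import Mathlib
import Cfsg.Agent.Lib.Helper8.PG.Defs
import Cfsg.Agent.Lib.Helper40.PSpRS

/-!
# S2474 (PG) package [SPA]

If `η(k) ≤ n - 1` (`k` the order of `q` modulo the odd prime `s ≠ p`, `n ≥ 2`) then `Sp_{2n}(q)`
contains `S` with `S ^ (2 s) = 1`, `S ^ 2 ≠ ± 1`, `S ^ s ≠ ± 1`: a semisimple element with
characteristic polynomial `(X + 1)² (X - 1)^e π₀ (π₀^*)`.
-/

set_option autoImplicit false
set_option linter.unusedVariables false

namespace Cfsg.Agent.Lib.Helper79.PG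

open Matrix Polynomial Cfsg.Agent.Lib.Helper40.DualPoly Cfsg.Agent.Lib.Helper40.SpExist
  Cfsg.Agent.Lib.Helper40.PrimeOrderGL Cfsg.Agent.Lib.Helper8.PG

universe u

theorem pkgSpA : Cfsg.Agent.Lib.Helper8.PG.PkgSpA.{u} := by
  intro F _ _ hodd p _ _ n s k ηk hn hs hs2 hsp hk hηk hle
  classical
  have hpp : p.Prime := Fact.out
  -- `p` is odd
  have hp2 : p ≠ 2 := by
    rintro rfl
    obtain ⟨f, -, hf⟩ := FiniteField.card F 2
    rw [hf] at hodd
    have : Even (2 ^ (f : ℕ)) := (Nat.even_pow.mpr ⟨even_two, f.ne_zero⟩)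
    exact (Nat.not_even_iff_odd.mpr hodd) this
  have h2F : (2 : F) ≠ 0 := by
    intro h
    have h' : ((2 : ℕ) : F) = 0 := by exact_mod_cast h
    rw [CharP.cast_eq_zero_iff F p 2] at h'
    exact hp2 ((Nat.prime_dvd_prime_iff_eq hpp Nat.prime_two).mp h')
  have hcop2 : Nat.Coprime 2 p := by
    rw [Nat.coprime_comm]
    exact (Nat.Prime.coprime_iff_not_dvd hpp).mpr
      (fun h => hp2 ((Nat.prime_dvd_prime_iff_eq hpp Nat.prime_two).mp h))
  have hsodd : Odd s := hs.odd_of_ne_two hs2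
  obtain ⟨S, dg, hS, hSne, hsF, hk0, hdg, hdd, hfix⟩ :=
    Cfsg.Agent.Lib.Helper40.PSpRP.exists_sp_data p s k hs hs2 hsp hk
  obtain ⟨π₀', hπ₀mem⟩ := hSne
  obtain ⟨π₀, hπ₀⟩ : ∃ π₀ : S, π₀ = ⟨π₀', hπ₀mem⟩ := ⟨_, rfl⟩
  obtain ⟨a', ha'def⟩ : ∃ a' : S → ℕ, a' = fun π => if π = π₀ ∨ π = dg π₀ then 1 else 0 :=
    ⟨_, rfl⟩
  have ha'π₀ : a' π₀ = 1 := by
    rw [ha'def]
    simp
  have ha'inv : ∀ π, a' (dg π) = a' π := by
    intro π
    have e : (dg π = π₀ ∨ dg π = dg π₀) ↔ (π = π₀ ∨ π = dg π₀) := by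
      constructor
      · rintro (h | h)
        · right; rw [← h, hdd]
        · left
          have := congrArg dg h
          rwa [hdd, hdd] at this
      · rintro (h | h)
        · right; rw [h]
        · left; rw [h, hdd]
    rw [ha'def]
    simp only [e]
  have hsum : k * ∑ π, a' π ≤ 2 * (n - 1) := by
    rcases hηk with ⟨hoddk, hη⟩ | ⟨heven, hη⟩
    · have h2 : ∑ π, a' π ≤ 2 := by
        calc ∑ π, a' π ≤ ∑ π : S, ((if π = π₀ then 1 else 0) + (if π = dg π₀ then 1 else 0)) := by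
              apply Finset.sum_le_sum
              intro π _
              rw [ha'def]
              show (if π = π₀ ∨ π = dg π₀ then 1 else 0) ≤ _
              by_cases h1 : π = π₀
              · simp [h1]
              · by_cases h2 : π = dg π₀
                · simp [h2]
                · simp [h1, h2]
          _ = 2 := by
              rw [Finset.sum_add_distrib, Finset.sum_ite_eq', Finset.sum_ite_eq']
              simp
      have := Nat.mul_le_mul_left k h2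
      omega
    · have hfixed : dg π₀ = π₀ := (hfix _).mpr heven
      have h1 : ∑ π, a' π = 1 := by
        rw [ha'def]
        simp only [hfixed, or_self]
        rw [Finset.sum_ite_eq']
        simp
      rw [h1]
      omega
  obtain ⟨e₁, he₁⟩ : ∃ e₁ : ℕ, e₁ = 2 * (n - 1) - k * ∑ π, a' π := ⟨_, rfl⟩
  have hG₁ : Good p (chi S a' e₁) :=
    good_chi p hS hs hs2 dg hdg a' ha'inv e₁ (n - 1) (by omega)
  obtain ⟨f, hf⟩ : ∃ f : F[X], f = (X - C (-1 : F)) ^ 2 * chi S a' e₁ := ⟨_, rfl⟩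
  have hG : Good p f := hf ▸ (good_X_add_one_sq p hcop2).mul hG₁
  have hdegf : f.natDegree = 2 * n := by
    rw [hf, ((monic_X_sub_C (-1 : F)).pow 2).natDegree_mul (monic_chi hS a' e₁),
      (monic_X_sub_C (-1 : F)).natDegree_pow, natDegree_X_sub_C, natDegree_chi hS]
    omega
  obtain ⟨m, hm, T, hTc, N, hN, hNp, hTN⟩ := sp_of_good hG
  have hmn : m = n := by omega
  subst hmn
  have hNF : (N : F) ≠ 0 := Cfsg.Agent.Lib.Helper40.natCast_ne_zero_of_coprime p N hNp
  have hTN' : T.1 ^ N = 1 := by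
    have := congrArg Subtype.val hTN
    simpa using this
  -- divisibility facts
  have hπ₀irr : Irreducible (π₀ : F[X]) := hS.irred _ π₀.2
  have hπ₀dvd : (π₀ : F[X]) ∣ T.1.charpoly := by
    rw [hTc, hf]
    apply Dvd.dvd.mul_left
    unfold chi
    apply Dvd.dvd.mul_left
    have := Finset.dvd_prod_of_mem (fun π : S => (π : F[X]) ^ a' π) (Finset.mem_univ π₀)
    simpa [ha'π₀] using this
  have hπ₀s : (π₀ : F[X]) ∣ X ^ s - 1 := hS.dvd _ π₀.2
  have hm1dvd : (X - C (-1 : F)) ∣ T.1.charpoly := by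
    rw [hTc, hf]
    apply Dvd.dvd.mul_right
    exact dvd_pow_self _ (by norm_num)
  have hm1irr : Irreducible (X - C (-1 : F)) := irreducible_X_sub_C _
  refine ⟨T, Or.inl ?_, ?_, ?_⟩
  · -- `T ^ (2 s) = 1`
    have hd1 : (X - C (-1 : F)) ∣ (X ^ (2 * s) - 1 : F[X]) := by
      rw [dvd_iff_isRoot]
      simp [pow_mul]
    have hd2 : (X ^ s - 1 : F[X]) ∣ (X ^ (2 * s) - 1 : F[X]) := by
      have : (X ^ (2 * s) - 1 : F[X]) = (X ^ s - 1) * (X ^ s + 1) := by ring
      rw [this]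
      exact dvd_mul_right _ _
    have hdvd : T.1.charpoly ∣ (X ^ (2 * s) - 1 : F[X]) ^ (2 + (e₁ + ∑ π, a' π)) := by
      rw [hTc, hf, pow_add]
      exact mul_dvd_mul (pow_dvd_pow_of_dvd hd1 2)
        ((chi_dvd hS a' e₁).trans (pow_dvd_pow_of_dvd hd2 _))
    exact pow_eq_one_of_charpoly_dvd' T.1 N hNF hTN' (2 * s) _ hdvd
  · rintro (h | h)
    · -- `T² = 1`: then `π₀ ∣ X² - 1`, and `π₀ ∣ X^s - 1`, so `π₀ ∣ X - 1`
      have ha : aeval T.1 (X ^ 2 - 1 : F[X]) = 0 := by simp [h]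
      have h1 := Cfsg.Agent.Lib.Helper40.PSpRS.irr_dvd_of_aeval T.1 _ ha _ hπ₀irr hπ₀dvd
      obtain ⟨j, hj⟩ := hsodd
      have h3 : (X ^ 2 - 1 : F[X]) ∣ X ^ s - 1 - (X - 1) := by
        have : (X ^ s - 1 - (X - 1) : F[X]) = X * ((X ^ 2) ^ j - 1) := by
          rw [hj]; ring
        rw [this]
        apply Dvd.dvd.mul_left
        have := sub_dvd_pow_sub_pow (X ^ 2 : F[X]) 1 j
        simpa using this
      have h4 : (π₀ : F[X]) ∣ X - 1 := by
        have := dvd_sub hπ₀s (h1.trans h3)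
        simpa using this
      have h4' : (π₀ : F[X]) ∣ X - C (1 : F) := by simpa using h4
      have h5 : (π₀ : F[X]).eval 1 = 0 := by
        have hassoc := hπ₀irr.associated_of_dvd (irreducible_X_sub_C (1 : F)) h4'
        have heq := eq_of_monic_of_associated (hS.monic _ π₀.2) (monic_X_sub_C (1 : F)) hassoc
        rw [heq]
        simp
      exact eval_one_ne hS _ π₀.2 h5
    · -- `T² = -1`: then `X + 1 ∣ X² + 1`
      have ha : aeval T.1 (X ^ 2 + 1 : F[X]) = 0 := by simp [h]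
      have h1 := Cfsg.Agent.Lib.Helper40.PSpRS.irr_dvd_of_aeval T.1 _ ha _ hm1irr hm1dvd
      rw [dvd_iff_isRoot] at h1
      have h2 : ((-1 : F)) ^ 2 + 1 = 0 := by simpa using h1
      apply h2F
      linear_combination h2
  · rintro (h | h)
    · -- `T^s = 1`: then `X + 1 ∣ X^s - 1`
      have ha : aeval T.1 (X ^ s - 1 : F[X]) = 0 := by simp [h]
      have h1 := Cfsg.Agent.Lib.Helper40.PSpRS.irr_dvd_of_aeval T.1 _ ha _ hm1irr hm1dvd
      rw [dvd_iff_isRoot] at h1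
      have h2 : ((-1 : F)) ^ s - 1 = 0 := by simpa using h1
      rw [hsodd.neg_one_pow] at h2
      apply h2F
      linear_combination -h2
    · -- `T^s = -1`: then `π₀ ∣ X^s + 1` and `π₀ ∣ X^s - 1`, so `π₀ ∣ 2`
      have ha : aeval T.1 (X ^ s + 1 : F[X]) = 0 := by simp [h]
      have h1 := Cfsg.Agent.Lib.Helper40.PSpRS.irr_dvd_of_aeval T.1 _ ha _ hπ₀irr hπ₀dvd
      have h3 : (π₀ : F[X]) ∣ C (2 : F) := by
        have := dvd_sub h1 hπ₀s
        have e : (X ^ s + 1 - (X ^ s - 1) : F[X]) = C (2 : F) := by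
          rw [map_ofNat]; ring
        rwa [e] at this
      have hunit : IsUnit (C (2 : F)) := isUnit_C.mpr (isUnit_iff_ne_zero.mpr h2F)
      exact hπ₀irr.not_isUnit (isUnit_of_dvd_unit h3 hunit)

end Cfsg.Agent.Lib.Helper79.PG
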